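import Groth.Agent.Lib.DescAlg.IndQA.Main
import Groth.Agent.Lib.DescAlg.Effective.Fpqc
import Groth.Agent.Lib.FFDesc.Effective
import Groth.Agent.H54.IndQAff

/-!
Ind-quasi-affine morphisms satisfy effective descent along fpqc families.
-/

set_option autoImplicit false
set_option backward.isDefEq.respectTransparency false
set_option backward.isDefEq.respectTransparency.types false

universe u

open CategoryTheory CategoryTheory.Limits AlgebraicGeometry TopologicalSpace Desc

namespace Groth.Agent.Lib.DescAlg.IndQA.Effective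

open Groth.Agent.Lib

/-- The property. -/
def indQA : MorphismProperty Scheme.{u} := fun _ _ f ↦ MoreMor.IsIndQuasiAffineHom f

instance : (indQA.{u}).IsStableUnderBaseChange where
  of_isPullback sq h := Groth.Agent.H54.IndQAff.baseChange sq h

theorem isIndQuasiAffine_left {V X : Scheme.{u}} [IsAffine X] {f : V ⟶ X}
    (hf : MoreMor.IsIndQuasiAffineHom f) : MoreMor.IsIndQuasiAffine V := fun U hU ↦
  Groth.Agent.H54.IndQAff.isIndQuasiAffineHom_le hf (isAffineOpen_top X) le_top hU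

theorem exists_iso_affine {X S : Scheme.{u}} (p : X ⟶ S) [IsAffine X] [IsAffine S] [Flat p]
    [Surjective p] (D : SchDD p) (hD : MoreMor.IsIndQuasiAffineHom D.obj.hom) :
    ∃ U : Over S, Nonempty ((toDD p).obj U ≅ D) := by
  have hV := isIndQuasiAffine_left hD
  have := Main.quasiSeparated_of hV
  have : IsAffineHom p := isAffineHom_of_isAffine p
  obtain ⟨U, q, H⟩ := DescAlg.Effective.OpensCover.exists_isDescended_of_cover
    (FFDesc.fpqcCover_of_quasiCompact p) D
    (fun O ↦ FFDesc.Invariant D O ∧ IsCompact (O : Set D.obj.left))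
    (fun O O' h h' ↦ ⟨h.1.inf D h'.1,
      QuasiSeparatedSpace.inter_isCompact _ _ O.2 h.2 O'.2 h'.2⟩)
    (fun O h ↦ h.1)
    (fun v ↦ by
      obtain ⟨O, h1, h2, h3⟩ := Main.exists_invariant_compact D hV v
      exact ⟨O, ⟨h1, h2⟩, h3⟩)
    (fun O h ↦ by
      have : Scheme.IsQuasiAffine (FFDesc.subDatum D h.1).obj.left := hV O h.2
      obtain ⟨U, q, H, -⟩ := FFDesc.exists_isDescended_of_quasiAffine (FFDesc.subDatum D h.1)
      exact ⟨U, q, H⟩)
  exact H.exists_iso

theorem sigmaMap (m : ℕ) (Y V : Fin m → Scheme.{u}) (q : ∀ j, Y j ⟶ V j) (hq : ∀ j, indQA (q j)) :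
    indQA (Limits.Sigma.map q) := by
  refine Groth.Agent.H54.IndQAff.isIndQuasiAffineHom_of_cover fun y ↦ ?_
  obtain ⟨j, x, hx⟩ := (sigmaOpenCover V).exists_eq y
  obtain ⟨W, hW, hxW, -⟩ := exists_isAffineOpen_mem_and_subset (x := x) (U := (⊤ : (V j).Opens)) trivial
  refine ⟨(Sigma.ι V j) ''ᵁ W, ⟨x, hxW, hx⟩, fun U hle hU ↦ ?_⟩
  have sq := Sigma.Coprod.isPullback_map q j
  have hUle : U ≤ (Sigma.ι Y j).opensRange := by
    intro u hu
    obtain ⟨w, -, hw⟩ := hle hu
    obtain ⟨z, -, hz⟩ := Scheme.exists_preimage_of_isPullback sq w u hw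
    exact ⟨z, hz⟩
  let U₀ := (Sigma.ι Y j) ⁻¹ᵁ U
  have hU₀ : IsCompact (U₀ : Set (Y j)) := by
    refine (Sigma.ι Y j).isOpenEmbedding.isInducing.isCompact_iff.2 ?_
    show IsCompact (Sigma.ι Y j '' (Sigma.ι Y j ⁻¹' (U : Set _)))
    rwa [Set.image_preimage_eq_of_subset hUle]
  have : Scheme.IsQuasiAffine (U₀ : Scheme.{u}) := by
    refine Groth.Agent.H54.IndQAff.isIndQuasiAffineHom_le (hq j) hW (fun z hz ↦ ?_) hU₀
    obtain ⟨w, hw, e⟩ := hle hz
    have e2 : Sigma.ι V j (q j z) = Sigma.ι V j w := by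
      refine Eq.trans ?_ e.symm
      rw [← Scheme.Hom.comp_apply, sq.w]
      rfl
    show q j z ∈ W
    rw [(Sigma.ι V j).isOpenEmbedding.injective e2]
    exact hw
  have : CompactSpace (U : Scheme.{u}) := isCompact_iff_compactSpace.1 hU
  have e : (Sigma.ι Y j) ''ᵁ U₀ = U := by
    ext1
    exact Set.image_preimage_eq_of_subset hUle
  exact Scheme.IsQuasiAffine.of_isImmersion
    ((Scheme.isoOfEq _ e.symm).hom ≫ ((Sigma.ι Y j).isoImage U₀).inv)

theorem effective {S : Scheme.{u}} {ι : Type u} {X : ι → Scheme.{u}} {f : ∀ i, X i ⟶ S}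
    (hf : Presieve.ofArrows X f ∈ Scheme.fpqcPrecoverage S) (D : SchDDFam f)
    (hD : ∀ i, MoreMor.IsIndQuasiAffineHom (D.obj i).hom) : D.IsEffective :=
  DescAlg.Effective.Fpqc.isEffective indQA sigmaMap
    (fun _ _ p _ _ _ _ E hE ↦ exists_iso_affine p E hE) hf D hD

end Groth.Agent.Lib.DescAlg.IndQA.Effective
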