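import Groth.Agent.Lib.FFDesc.SubDatum
import Groth.Agent.Lib.FinCond.Dominant
import Mathlib.AlgebraicGeometry.Morphisms.Affine
import Mathlib.AlgebraicGeometry.Morphisms.UniversallyOpen
import Mathlib.AlgebraicGeometry.IdealSheaf.Functorial
import Mathlib.AlgebraicGeometry.Morphisms.ClosedImmersion

/-!
Saturations of subsets under a descent datum along a faithfully flat map of affine schemes.
-/

set_option autoImplicit false
set_option backward.isDefEq.respectTransparency false
set_option backward.isDefEq.respectTransparency.types false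

universe u

open CategoryTheory CategoryTheory.Limits AlgebraicGeometry TopologicalSpace

namespace Groth.Agent.Lib.DescAlg.IndQA.Saturation

open Groth.Agent.Lib.FFDesc

variable {X S : Scheme.{u}} {p : X ⟶ S} (D : Desc.SchDD p)

/-- Saturation of a set. -/
def Sat (A : Set D.obj.left) : Set D.obj.left := pr D '' (act D ⁻¹' A)

theorem mem_sat {A : Set D.obj.left} (t : ↥(V₂ D)) (h : act D t ∈ A) : pr D t ∈ Sat D A :=
  ⟨t, h, rfl⟩

theorem pr_swap (t : ↥(V₂ D)) : pr D (swap D t) = act D t := by
  rw [← Scheme.Hom.comp_apply, swap_pr]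

theorem act_swap (t : ↥(V₂ D)) : act D (swap D t) = pr D t := by
  rw [← Scheme.Hom.comp_apply, swap_act]

/-- The diagonal point. -/
theorem exists_diag (v : D.obj.left) : ∃ t, pr D t = v ∧ act D t = v := by
  let Δ : D.obj.left ⟶ V₂ D := pullback.lift (𝟙 _) D.obj.hom (by simp)
  have h1 : Δ ≫ pr D = 𝟙 _ := pullback.lift_fst _ _ _
  have h2 : Δ ≫ act D = 𝟙 _ := tr_self D _ _ (Category.id_comp _)
  exact ⟨Δ v, by rw [← Scheme.Hom.comp_apply, h1]; rfl, by rw [← Scheme.Hom.comp_apply, h2]; rfl⟩

theorem subset_sat (A : Set D.obj.left) : A ⊆ Sat D A := fun v hv ↦ by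
  obtain ⟨t, h1, h2⟩ := exists_diag D v
  exact h1 ▸ mem_sat D t (h2.symm ▸ hv)

theorem trans (t t' : ↥(V₂ D)) (h : act D t = pr D t') :
    ∃ c, pr D c = pr D t ∧ act D c = act D t' := by
  obtain ⟨s, hs₁, hs₂⟩ :=
    Scheme.Pullback.exists_preimage_pullback (f := act D) (g := pr D) t t' h
  let g := (pullback (act D) (pr D)).fromSpecResidueField s
  obtain ⟨z⟩ := (inferInstance : Nonempty (Spec ((pullback (act D) (pr D)).residueField s)))
  obtain ⟨c, h1, h2⟩ := range_act_eq D (a := g ≫ pullback.fst (act D) (pr D))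
    (b := g ≫ pullback.snd (act D) (pr D)) (by simp [pullback.condition]) z
  refine ⟨c, h1.trans ?_, h2.trans ?_⟩
  · rw [Scheme.Hom.comp_apply, show g z = s from Scheme.fromSpecResidueField_apply s z, hs₁]
  · rw [Scheme.Hom.comp_apply, show g z = s from Scheme.fromSpecResidueField_apply s z, hs₂]

theorem act_mem_sat {A : Set D.obj.left} (t : ↥(V₂ D)) (h : pr D t ∈ Sat D A) :
    act D t ∈ Sat D A := by
  obtain ⟨t', ht', e⟩ := h
  obtain ⟨c, h1, h2⟩ := trans D (swap D t) t' (by rw [act_swap, e])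
  exact ⟨c, by rw [Set.mem_preimage, h2]; exact ht', h1.trans (pr_swap D t)⟩

theorem pr_mem_sat {A : Set D.obj.left} (t : ↥(V₂ D)) (h : act D t ∈ Sat D A) :
    pr D t ∈ Sat D A := by
  have := act_mem_sat D (swap D t) (by rwa [pr_swap])
  rwa [act_swap] at this

theorem isIso_swap : IsIso (swap D) := ⟨swap D, swap_swap D, swap_swap D⟩

section affine

variable [IsAffine X] [IsAffine S]

instance isAffineHom_pr : IsAffineHom (pr D) :=
  have : IsAffineHom p := isAffineHom_of_isAffine p
  MorphismProperty.pullback_fst _ _ this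

instance isAffineHom_act : IsAffineHom (act D) := by
  have := isIso_swap D
  rw [← swap_pr D]
  infer_instance

theorem isCompact_sat {A : D.obj.left.Opens} (hA : IsCompact (A : Set D.obj.left)) :
    IsCompact (Sat D A) :=
  ((act D).isCompact_preimage hA).image (pr D).continuous

theorem stableUnderGeneralization_sat [Flat p] {A : Set D.obj.left}
    (hA : StableUnderGeneralization A) : StableUnderGeneralization (Sat D A) :=
  (hA.preimage (act D).continuous).image (Flat.generalizingMap (pr D))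

theorem disjoint_closure_sat {Z G : Set D.obj.left} (hZ : IsClosed Z)
    (hG : StableUnderGeneralization G) (hinv : ∀ t, pr D t ∈ G → act D t ∈ G)
    (hd : Disjoint Z G) : Disjoint (closure (Sat D Z)) G := by
  let C : Closeds ↥(V₂ D) := ⟨act D ⁻¹' Z, hZ.preimage (act D).continuous⟩
  let i := (Scheme.IdealSheafData.vanishingIdeal C).subschemeι
  have hi : Set.range i = act D ⁻¹' Z := by
    rw [Scheme.IdealSheafData.range_subschemeι, Scheme.IdealSheafData.coe_support_vanishingIdeal]
    rfl
  have hr : Sat D Z = Set.range (i ≫ pr D) := by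
    rw [Sat, ← hi, ← Set.range_comp]
    rfl
  rw [Set.disjoint_left]
  intro y hy hyG
  rw [hr] at hy
  obtain ⟨z, hz⟩ := FinCond.exists_specializes_of_mem_closure_range (i ≫ pr D) hy
  have h1 : pr D (i z) ∈ G := hG hz hyG
  have h2 : act D (i z) ∈ Z := by
    have : i z ∈ Set.range i := ⟨z, rfl⟩
    rwa [hi] at this
  exact Set.disjoint_left.1 hd h2 (hinv _ h1)

end affine

/-- A quasi-compact open between a compact set and an open set. -/
theorem exists_compact_open {Y : Scheme.{u}} {K : Set Y} (hK : IsCompact K) (U : Y.Opens)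
    (hKU : K ⊆ U) : ∃ W : Y.Opens, IsCompact (W : Set Y) ∧ K ⊆ W ∧ W ≤ U := by
  choose V hV hxV hVU using fun x : K ↦
    exists_isAffineOpen_mem_and_subset (x := (x : Y)) (U := U) (hKU x.2)
  obtain ⟨s, hs⟩ := hK.elim_finite_subcover (fun x : K ↦ (V x : Set Y)) (fun x ↦ (V x).2)
    fun x hx ↦ Set.mem_iUnion.2 ⟨⟨x, hx⟩, hxV ⟨x, hx⟩⟩
  refine ⟨⨆ x ∈ s, V x, ?_, ?_, iSup₂_le fun x _ ↦ hVU x⟩
  · simp only [Opens.coe_iSup]
    exact s.finite_toSet.isCompact_biUnion fun x _ ↦ (hV x).isCompact
  · simpa only [Opens.coe_iSup] using hs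

end Groth.Agent.Lib.DescAlg.IndQA.Saturation
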