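import Groth.Agent.Lib.FFDesc.AffineBase
import Mathlib.RingTheory.Flat.Basic
import Mathlib.AlgebraicGeometry.Morphisms.QuasiSeparated

/-!
Functions on a flat affine base change with invariant coefficients.
-/

set_option autoImplicit false
set_option backward.isDefEq.respectTransparency false
set_option backward.isDefEq.respectTransparency.types false

universe u

open CategoryTheory CategoryTheory.Limits AlgebraicGeometry TensorProduct

namespace Groth.Agent.Lib.DescAlg.IndQA.Coefficients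

variable {X S : Scheme.{u}} [IsAffine X] [IsAffine S] (p : X ⟶ S)

section maps

variable {W : Scheme.{u}} (k : W ⟶ S) [Algebra Γ(S, ⊤) Γ(X, ⊤)] [Algebra Γ(S, ⊤) Γ(W, ⊤)]

theorem fst_eq_snd (hp : ∀ r, algebraMap Γ(S, ⊤) Γ(X, ⊤) r = p.appTop r)
    (hk : ∀ r, algebraMap Γ(S, ⊤) Γ(W, ⊤) r = k.appTop r) (r : Γ(S, ⊤)) :
    (pullback.snd k p).appTop (algebraMap Γ(S, ⊤) Γ(X, ⊤) r) =
      (pullback.fst k p).appTop (algebraMap Γ(S, ⊤) Γ(W, ⊤) r) := by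
  rw [hp, hk, ← ConcreteCategory.comp_apply, ← Scheme.Hom.comp_appTop, ← pullback.condition,
    Scheme.Hom.comp_appTop, ConcreteCategory.comp_apply]

/-- The comparison map. -/
noncomputable def ψ (hp : ∀ r, algebraMap Γ(S, ⊤) Γ(X, ⊤) r = p.appTop r)
    (hk : ∀ r, algebraMap Γ(S, ⊤) Γ(W, ⊤) r = k.appTop r) :
    Γ(X, ⊤) ⊗[Γ(S, ⊤)] Γ(W, ⊤) →+* Γ(pullback k p, ⊤) :=
  letI := ((pullback.snd k p).appTop.hom.comp (algebraMap Γ(S, ⊤) Γ(X, ⊤))).toAlgebra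
  (Algebra.TensorProduct.lift (R := Γ(S, ⊤))
    (⟨(pullback.snd k p).appTop.hom, fun _ ↦ rfl⟩ : Γ(X, ⊤) →ₐ[Γ(S, ⊤)] Γ(pullback k p, ⊤))
    (⟨(pullback.fst k p).appTop.hom, fun r ↦ (fst_eq_snd p k hp hk r).symm⟩ :
      Γ(W, ⊤) →ₐ[Γ(S, ⊤)] Γ(pullback k p, ⊤))
    fun _ _ ↦ Commute.all _ _).toRingHom

theorem ψ_tmul (hp : ∀ r, algebraMap Γ(S, ⊤) Γ(X, ⊤) r = p.appTop r)
    (hk : ∀ r, algebraMap Γ(S, ⊤) Γ(W, ⊤) r = k.appTop r) (a : Γ(X, ⊤)) (g : Γ(W, ⊤)) :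
    ψ p k hp hk (a ⊗ₜ g) = (pullback.snd k p).appTop a * (pullback.fst k p).appTop g := by
  simp [ψ]

theorem ψ_bijective [Flat p] [CompactSpace W] [QuasiSeparatedSpace W]
    (hp : ∀ r, algebraMap Γ(S, ⊤) Γ(X, ⊤) r = p.appTop r)
    (hk : ∀ r, algebraMap Γ(S, ⊤) Γ(W, ⊤) r = k.appTop r) :
    Function.Bijective (ψ p k hp hk) :=
  FFDesc.bijective_of_pullback p k (RingEquiv.refl _) hp (fun r ↦ hk r) _
    (fun a ↦ by rw [ψ_tmul, map_one, mul_one]) (fun g ↦ by rw [ψ_tmul, map_one, one_mul]; rfl)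

end maps

/-- The map on base changes induced by a morphism over the base. -/
noncomputable abbrev bcMap {W N : Scheme.{u}} (k : W ⟶ S) (kN : N ⟶ S) (a : N ⟶ W)
    (ha : a ≫ k = kN) : pullback kN p ⟶ pullback k p :=
  pullback.map kN p k p a (𝟙 X) (𝟙 S) (by simp [ha]) (by simp)

/-- A function on a flat base change, invariant along two maps and vanishing along a third, is
non-zero only where some invariant vanishing coefficient is non-zero. -/
theorem exists_coeff [Flat p] {W N P : Scheme.{u}} [CompactSpace W] [QuasiSeparatedSpace W]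
    [CompactSpace N] [QuasiSeparatedSpace N] [CompactSpace P] [QuasiSeparatedSpace P]
    (k : W ⟶ S) (a b : N ⟶ W) (hab : a ≫ k = b ≫ k) (c : P ⟶ W) (x : Γ(pullback k p, ⊤))
    (hx : (bcMap p k (a ≫ k) a rfl).appTop x = (bcMap p k (a ≫ k) b hab.symm).appTop x)
    (hxc : (bcMap p k (c ≫ k) c rfl).appTop x = 0) (t : ↥(pullback k p))
    (ht : t ∈ (pullback k p).basicOpen x) :
    ∃ g : Γ(W, ⊤), a.appTop g = b.appTop g ∧ c.appTop g = 0 ∧
      pullback.fst k p t ∈ W.basicOpen g := by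
  let : Algebra Γ(S, ⊤) Γ(X, ⊤) := p.appTop.hom.toAlgebra
  let : Algebra Γ(S, ⊤) Γ(W, ⊤) := k.appTop.hom.toAlgebra
  let : Algebra Γ(S, ⊤) Γ(N, ⊤) := (a ≫ k).appTop.hom.toAlgebra
  let : Algebra Γ(S, ⊤) Γ(P, ⊤) := (c ≫ k).appTop.hom.toAlgebra
  have : Module.Flat Γ(S, ⊤) Γ(X, ⊤) := HasRingHomProperty.iff_of_isAffine.1 ‹Flat p›
  let mk : ∀ {N' : Scheme.{u}} (m : N' ⟶ W) [Algebra Γ(S, ⊤) Γ(N', ⊤)],
      (∀ r, algebraMap Γ(S, ⊤) Γ(N', ⊤) r = (m ≫ k).appTop r) → (Γ(W, ⊤) →ₐ[Γ(S, ⊤)] Γ(N', ⊤)) :=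
    fun m _ h ↦ ⟨m.appTop.hom, fun r ↦ by rw [h, Scheme.Hom.comp_appTop]; rfl⟩
  let A := mk a (fun _ ↦ rfl)
  let B := mk b (fun r ↦ by rw [← hab]; rfl)
  let C := mk c (fun _ ↦ rfl)
  let ψW := ψ p k (fun _ ↦ rfl) (fun _ ↦ rfl)
  let ψN := ψ p (a ≫ k) (fun _ ↦ rfl) (fun _ ↦ rfl)
  let ψP := ψ p (c ≫ k) (fun _ ↦ rfl) (fun _ ↦ rfl)
  obtain ⟨y, hy⟩ := (ψ_bijective p k (fun _ ↦ rfl) (fun _ ↦ rfl)).2 x
  have nat : ∀ {N' : Scheme.{u}} (kN : N' ⟶ S) (m : N' ⟶ W) (hm : m ≫ k = kN)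
      [Algebra Γ(S, ⊤) Γ(N', ⊤)] (hN : ∀ r, algebraMap Γ(S, ⊤) Γ(N', ⊤) r = kN.appTop r)
      (M : Γ(W, ⊤) →ₐ[Γ(S, ⊤)] Γ(N', ⊤)), (∀ g, M g = m.appTop g) → ∀ y,
      ψ p kN (fun _ ↦ rfl) hN (LinearMap.lTensor Γ(X, ⊤) M.toLinearMap y) =
        (bcMap p k kN m hm).appTop (ψW y) := by
    intro N' kN m hm _ hN M hM y
    induction y using TensorProduct.induction_on with
    | zero => simp only [map_zero]
    | add u v hu hv => simp only [map_add, hu, hv]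
    | tmul r g =>
      rw [LinearMap.lTensor_tmul, ψ_tmul, ψ_tmul, map_mul]
      congr 1
      · rw [← ConcreteCategory.comp_apply, ← Scheme.Hom.comp_appTop, pullback.lift_snd,
          Category.comp_id]
      · rw [← ConcreteCategory.comp_apply, ← Scheme.Hom.comp_appTop, pullback.lift_fst,
          Scheme.Hom.comp_appTop, ConcreteCategory.comp_apply]
        exact congrArg _ (hM g)
  let d₁ : Γ(W, ⊤) →ₗ[Γ(S, ⊤)] Γ(N, ⊤) := A.toLinearMap - B.toLinearMap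
  let d := d₁.prod C.toLinearMap
  have h1 : LinearMap.lTensor Γ(X, ⊤) d₁ y = 0 := by
    rw [LinearMap.lTensor_sub, LinearMap.sub_apply, sub_eq_zero]
    apply (ψ_bijective p (a ≫ k) (fun _ ↦ rfl) (fun _ ↦ rfl)).1
    rw [nat (a ≫ k) a rfl (fun _ ↦ rfl) A (fun _ ↦ rfl) y,
      nat (a ≫ k) b hab.symm (fun _ ↦ rfl) B (fun _ ↦ rfl) y, hy]
    exact hx
  have h2 : LinearMap.lTensor Γ(X, ⊤) C.toLinearMap y = 0 := by
    apply (ψ_bijective p (c ≫ k) (fun _ ↦ rfl) (fun _ ↦ rfl)).1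
    rw [nat (c ≫ k) c rfl (fun _ ↦ rfl) C (fun _ ↦ rfl) y, map_zero, hy]
    exact hxc
  have hd : LinearMap.lTensor Γ(X, ⊤) d y = 0 := by
    apply (TensorProduct.prodRight Γ(S, ⊤) Γ(S, ⊤) Γ(X, ⊤) Γ(N, ⊤) Γ(P, ⊤)).injective
    have hpair : ∀ z, TensorProduct.prodRight Γ(S, ⊤) Γ(S, ⊤) Γ(X, ⊤) Γ(N, ⊤) Γ(P, ⊤)
        (LinearMap.lTensor Γ(X, ⊤) d z) =
        (LinearMap.lTensor Γ(X, ⊤) d₁ z, LinearMap.lTensor Γ(X, ⊤) C.toLinearMap z) := by
      intro z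
      induction z using TensorProduct.induction_on with
      | zero => simp only [map_zero]; rfl
      | add u v hu hv => simp only [map_add, hu, hv]; rfl
      | tmul r g => simp [d, TensorProduct.prodRight_tmul]
    rw [hpair, h1, h2, map_zero]
    rfl
  obtain ⟨z, hz⟩ := (Module.Flat.lTensor_exact Γ(X, ⊤)
    (LinearMap.exact_subtype_ker_map d) y).1 hd
  by_contra hcon
  push Not at hcon
  let ev := (pullback k p).Γevaluation t
  have hall : ∀ z, ev (ψW (LinearMap.lTensor Γ(X, ⊤) (LinearMap.ker d).subtype z)) = 0 := by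
    intro z
    induction z using TensorProduct.induction_on with
    | zero => simp
    | add u v hu hv => simp [hu, hv]
    | tmul r g =>
      have hg : d₁ g.1 = 0 ∧ C.toLinearMap g.1 = 0 :=
        ⟨congrArg Prod.fst (LinearMap.mem_ker.1 g.2), congrArg Prod.snd (LinearMap.mem_ker.1 g.2)⟩
      have hnot := hcon g.1 (sub_eq_zero.1 hg.1) hg.2
      rw [LinearMap.lTensor_tmul, ψ_tmul, map_mul]
      refine mul_eq_zero_of_right _ ?_
      refine (Scheme.evaluation_eq_zero_iff_notMem_basicOpen _ _ _ _).2 ?_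
      intro hmem
      refine hnot ?_
      have := Scheme.preimage_basicOpen_top (pullback.fst k p) g.1
      rw [Submodule.subtype_apply, ← this] at hmem
      exact hmem
  have := hall z
  rw [hz, hy] at this
  exact (Scheme.evaluation_ne_zero_iff_mem_basicOpen _ _ _ _).2 ht this

end Groth.Agent.Lib.DescAlg.IndQA.Coefficients
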