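import Groth.Agent.Lib.DescAlg.IndQA.Coefficients
import Groth.Agent.Lib.DescAlg.IndQA.Saturation
import Groth.Agent.Lib.DescAlg.Effective.OpensCover
import Groth.Prelude.Def_MoreMor
import Mathlib.AlgebraicGeometry.QuasiAffine

/-!
Ind-quasi-affine descent data along faithfully flat maps of affine schemes are effective: every
point lies in a quasi-compact invariant open.
-/

set_option autoImplicit false
set_option backward.isDefEq.respectTransparency false
set_option backward.isDefEq.respectTransparency.types false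

universe u

open CategoryTheory CategoryTheory.Limits AlgebraicGeometry TopologicalSpace

namespace Groth.Agent.Lib.DescAlg.IndQA.Main

open Groth.Agent.Lib.FFDesc Saturation

theorem quasiSeparated_of {V : Scheme.{u}} (hV : MoreMor.IsIndQuasiAffine V) :
    QuasiSeparatedSpace V := by
  refine ⟨fun U₁ U₂ h1 h1c h2 h2c ↦ ?_⟩
  let W : V.Opens := ⟨U₁ ∪ U₂, h1.union h2⟩
  have : Scheme.IsQuasiAffine (W : Scheme.{u}) := hV W (h1c.union h2c)
  have e : ∀ U : Set V, U ⊆ (W : Set V) → W.ι '' (W.ι ⁻¹' U) = U := fun U hU ↦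
    Set.image_preimage_eq_of_subset (by rwa [Scheme.Opens.range_ι])
  have c : ∀ U : Set V, U ⊆ (W : Set V) → IsCompact U → IsCompact (W.ι ⁻¹' U) := fun U hU hUc ↦
    W.ι.isOpenEmbedding.isInducing.isCompact_iff.2 (by rwa [e U hU])
  have := QuasiSeparatedSpace.inter_isCompact (W.ι ⁻¹' U₁) (W.ι ⁻¹' U₂) (h1.preimage W.ι.continuous)
    (c _ Set.subset_union_left h1c) (h2.preimage W.ι.continuous) (c _ Set.subset_union_right h2c)
  have := this.image W.ι.continuous
  rwa [← Set.preimage_inter, e _ (Set.inter_subset_left.trans Set.subset_union_left)] at this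

variable {X S : Scheme.{u}} [IsAffine X] [IsAffine S] {p : X ⟶ S} [Flat p] (D : Desc.SchDD p)

theorem compactSpace_preimage {Y Z : Scheme.{u}} (f : Y ⟶ Z) [QuasiCompact f] {U : Z.Opens}
    (hU : IsCompact (U : Set Z)) : IsCompact ((f ⁻¹ᵁ U : Y.Opens) : Set Y) :=
  f.isCompact_preimage hU

/-- Every point lies in a quasi-compact invariant open. -/
theorem exists_invariant_compact (hV : MoreMor.IsIndQuasiAffine D.obj.left) (v : D.obj.left) :
    ∃ O : D.obj.left.Opens, Invariant D O ∧ IsCompact (O : Set D.obj.left) ∧ v ∈ O := by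
  have := quasiSeparated_of hV
  have hgen : ∀ O : D.obj.left.Opens, StableUnderGeneralization (O : Set D.obj.left) :=
    fun O ↦ O.2.stableUnderGeneralization
  -- the nested opens
  obtain ⟨U, hU, hvU, -⟩ :=
    exists_isAffineOpen_mem_and_subset (x := v) (U := (⊤ : D.obj.left.Opens)) trivial
  let E₁ := Sat D (U : Set D.obj.left)
  have hvE₁ : v ∈ E₁ := subset_sat D _ hvU
  obtain ⟨W₃, hW₃c, hE₁W₃, -⟩ := exists_compact_open (isCompact_sat D hU.isCompact) ⊤ (fun x _ ↦ trivial)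
  let E₂ := Sat D (W₃ : Set D.obj.left)
  have hW₃E₂ : (W₃ : Set D.obj.left) ⊆ E₂ := subset_sat D _
  obtain ⟨W', hW'c, hE₂W', -⟩ := exists_compact_open (isCompact_sat D hW₃c) ⊤ (fun x _ ↦ trivial)
  let K₀ := closure (Sat D (W₃ : Set D.obj.left)ᶜ)
  have hK₀ : Disjoint K₀ E₁ := disjoint_closure_sat D W₃.2.isClosed_compl
    (stableUnderGeneralization_sat D (hgen U)) (fun t ↦ act_mem_sat D t)
    (Set.disjoint_left.2 fun x hx hx' ↦ hx (hE₁W₃ hx'))
  let K₁ := closure (Sat D (W' : Set D.obj.left)ᶜ)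
  have hK₁ : Disjoint K₁ E₂ := disjoint_closure_sat D W'.2.isClosed_compl
    (stableUnderGeneralization_sat D (hgen W₃)) (fun t ↦ act_mem_sat D t)
    (Set.disjoint_left.2 fun x hx hx' ↦ hx (hE₂W' hx'))
  obtain ⟨W, hWc, hE₂W, hWle⟩ := exists_compact_open (isCompact_sat D hW₃c)
    ⟨(W' : Set D.obj.left) ∩ K₁ᶜ, W'.2.inter isClosed_closure.isOpen_compl⟩
    (fun x hx ↦ ⟨hE₂W' hx, fun hx' ↦ Set.disjoint_left.1 hK₁ hx' hx⟩)
  have hact : ∀ t, pr D t ∈ W → act D t ∈ W' := fun t ht ↦ by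
    by_contra h
    exact (hWle ht).2 (subset_closure (mem_sat D t h))
  -- a function
  have : CompactSpace (W' : Scheme.{u}) := isCompact_iff_compactSpace.1 hW'c
  have : Scheme.IsQuasiAffine (W' : Scheme.{u}) := hV W' hW'c
  obtain ⟨_, ⟨_, ⟨f, -, rfl⟩, rfl⟩, hvf, hfK⟩ :=
    (Scheme.IsQuasiAffine.isBasis_basicOpen (W' : Scheme.{u})).exists_subset_of_mem_open
      (a := ⟨v, hE₂W' (hW₃E₂ (hE₁W₃ hvE₁))⟩) (u := W'.ι ⁻¹' K₀ᶜ)
      (fun h ↦ Set.disjoint_left.1 hK₀ h hvE₁) (isClosed_closure.isOpen_compl.preimage W'.ι.continuous)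
  -- the schemes
  have : CompactSpace (W : Scheme.{u}) := isCompact_iff_compactSpace.1 hWc
  have : Scheme.IsQuasiAffine (W : Scheme.{u}) := hV W hWc
  let k : (W : Scheme.{u}) ⟶ S := W.ι ≫ D.obj.hom ≫ p
  let ι₂ : pullback k p ⟶ V₂ D := pullback.lift (pullback.fst k p ≫ W.ι) (pullback.snd k p)
    (by rw [Category.assoc]; exact pullback.condition)
  have hι₂ : ι₂ ≫ pr D = pullback.fst k p ≫ W.ι := pullback.lift_fst _ _ _
  have hι₂' : ι₂ ≫ pr₁ D = pullback.snd k p := pullback.lift_snd _ _ _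
  have hprW : ∀ q, pr D (ι₂ q) ∈ W := fun q ↦ by
    rw [← Scheme.Hom.comp_apply, hι₂, Scheme.Hom.comp_apply]; exact Subtype.coe_prop _
  let j : pullback k p ⟶ (W' : Scheme.{u}) := IsOpenImmersion.lift W'.ι (ι₂ ≫ act D) (by
    rw [Scheme.Opens.range_ι]
    rintro _ ⟨q, rfl⟩
    exact hact (ι₂ q) (hprW q))
  have hj : j ≫ W'.ι = ι₂ ≫ act D := IsOpenImmersion.lift_fac _ _ _
  let x := j.appTop f
  have lift_pt : ∀ t, pr D t ∈ W → ∃ q, ι₂ q = t := fun t ht ↦ by
    have sq : IsPullback ι₂ (pullback.fst k p) (pr D) W.ι := by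
      refine IsPullback.of_right ?_ hι₂ (IsPullback.of_hasPullback (D.obj.hom ≫ p) p).flip
      rw [hι₂']
      exact (IsPullback.of_hasPullback k p).flip
    obtain ⟨q, hq, -⟩ := Scheme.exists_preimage_of_isPullback sq t ⟨pr D t, ht⟩ rfl
    exact ⟨q, hq⟩
  -- the invariance scheme
  let Nset : (V₂ D).Opens := pr D ⁻¹ᵁ W ⊓ act D ⁻¹ᵁ W
  have hNle1 : Nset ≤ pr D ⁻¹ᵁ W := inf_le_left
  have hNle2 : Nset ≤ act D ⁻¹ᵁ W := inf_le_right
  have : QuasiSeparatedSpace ↥(V₂ D) := quasiSeparatedSpace_of_quasiSeparated (pr D)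
  have : CompactSpace (Nset : Scheme.{u}) := isCompact_iff_compactSpace.1
    (QuasiSeparatedSpace.inter_isCompact _ _ (pr D ⁻¹ᵁ W).2 ((pr D).isCompact_preimage hWc)
      (act D ⁻¹ᵁ W).2 ((act D).isCompact_preimage hWc))
  have : QuasiSeparatedSpace (Nset : Scheme.{u}) :=
    quasiSeparatedSpace_of_quasiSeparated Nset.ι
  let a : (Nset : Scheme.{u}) ⟶ W := IsOpenImmersion.lift W.ι (Nset.ι ≫ pr D) (by
    rw [Scheme.Opens.range_ι]; rintro _ ⟨q, rfl⟩; exact hNle1 q.2)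
  let b : (Nset : Scheme.{u}) ⟶ W := IsOpenImmersion.lift W.ι (Nset.ι ≫ act D) (by
    rw [Scheme.Opens.range_ι]; rintro _ ⟨q, rfl⟩; exact hNle2 q.2)
  have ha : a ≫ W.ι = Nset.ι ≫ pr D := IsOpenImmersion.lift_fac _ _ _
  have hb : b ≫ W.ι = Nset.ι ≫ act D := IsOpenImmersion.lift_fac _ _ _
  have hab : a ≫ k = b ≫ k := by
    simp only [k, reassoc_of% ha, reassoc_of% hb, act_hom_assoc]
    exact congrArg (Nset.ι ≫ ·) pullback.condition
  -- the vanishing scheme
  let C : Closeds ↥(pullback k p) :=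
    ⟨(ι₂ ≫ act D) ⁻¹' (W₃ : Set D.obj.left)ᶜ, W₃.2.isClosed_compl.preimage (ι₂ ≫ act D).continuous⟩
  let i := (Scheme.IdealSheafData.vanishingIdeal C).subschemeι
  have hi : Set.range i = (ι₂ ≫ act D) ⁻¹' (W₃ : Set D.obj.left)ᶜ := by
    rw [Scheme.IdealSheafData.range_subschemeι, Scheme.IdealSheafData.coe_support_vanishingIdeal]
    rfl
  let c := i ≫ pullback.fst k p
  have : QuasiCompact k := quasiCompact_of_compactSpace k
  have : IsAffineHom p := isAffineHom_of_isAffine p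
  have : CompactSpace ↥(pullback k p) := QuasiCompact.compactSpace_of_compactSpace (pullback.fst k p)
  have : QuasiSeparatedSpace ↥(pullback k p) := quasiSeparatedSpace_of_quasiSeparated (pullback.fst k p)
  have : CompactSpace ↥(Scheme.IdealSheafData.vanishingIdeal C).subscheme :=
    QuasiCompact.compactSpace_of_compactSpace i
  have : QuasiSeparatedSpace ↥(Scheme.IdealSheafData.vanishingIdeal C).subscheme :=
    quasiSeparatedSpace_of_quasiSeparated i
  -- invariance of x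
  have hx : (Coefficients.bcMap p k (a ≫ k) a rfl).appTop x =
      (Coefficients.bcMap p k (a ≫ k) b hab.symm).appTop x := by
    have e : Coefficients.bcMap p k (a ≫ k) a rfl ≫ j = Coefficients.bcMap p k (a ≫ k) b hab.symm ≫ j := by
      rw [← cancel_mono W'.ι, Category.assoc, Category.assoc, hj]
      let n := pullback.fst (a ≫ k) p ≫ Nset.ι
      let x₂ := pullback.snd (a ≫ k) p
      have hn : (n ≫ pr D) ≫ D.obj.hom ≫ p = x₂ ≫ p := by
        have := pullback.condition (f := a ≫ k) (g := p)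
        simpa [n, x₂, k, reassoc_of% ha] using this
      have key : ∀ (m : (Nset : Scheme.{u}) ⟶ W) (hm : m ≫ k = a ≫ k) (w : pullback (a ≫ k) p ⟶ D.obj.left)
          (_ : pullback.fst (a ≫ k) p ≫ m ≫ W.ι = w) (hw : w ≫ D.obj.hom ≫ p = x₂ ≫ p),
          Coefficients.bcMap p k (a ≫ k) m hm ≫ ι₂ ≫ act D = tr D w x₂ hw := by
        intro m hm w hwe hw
        rw [act_eq_tr, comp_tr, comp_tr]
        refine tr_congr D _ ?_ ?_
        · rw [hι₂, ← hwe]; simp
        · rw [hι₂']; simp [x₂]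
      have hn' : (n ≫ act D) ≫ D.obj.hom ≫ p = x₂ ≫ p := by
        rw [← hn, Category.assoc, Category.assoc, act_hom_assoc]
        exact congrArg (n ≫ ·) pullback.condition.symm
      rw [key a rfl (n ≫ pr D) (by simp [n, ha]) hn, key b hab.symm (n ≫ act D) (by simp [n, hb]) hn']
      have eact : n ≫ act D = tr D (n ≫ pr D) (n ≫ pr₁ D)
          (by rw [Category.assoc, Category.assoc]; exact congrArg (n ≫ ·) pullback.condition) :=
        (congrArg (n ≫ ·) (act_eq_tr D)).trans (comp_tr D n _ _ _)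
      refine Eq.trans ?_ (tr_congr D hn' eact rfl).symm
      rw [tr_tr]
    simp only [x, ← ConcreteCategory.comp_apply, ← Scheme.Hom.comp_appTop, e]
  -- vanishing of a power of x
  obtain ⟨m, hm⟩ : IsNilpotent ((Coefficients.bcMap p k (c ≫ k) c rfl).appTop x) := by
    have : QuasiCompact (c ≫ k) := quasiCompact_of_compactSpace _
    have : CompactSpace ↥(pullback (c ≫ k) p) :=
      QuasiCompact.compactSpace_of_compactSpace (pullback.fst (c ≫ k) p)
    rw [Scheme.isNilpotent_iff_basicOpen_eq_bot, eq_bot_iff]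
    intro q hq
    rw [← Scheme.preimage_basicOpen_top, ← Scheme.preimage_basicOpen_top] at hq
    let y := pullback.fst (c ≫ k) p q
    let z := Coefficients.bcMap p k (c ≫ k) c rfl q
    have hz : pr D (ι₂ z) = pr D (ι₂ (i y)) := by
      simp only [← Scheme.Hom.comp_apply, z, y]
      simp only [Category.assoc, hι₂, c, pullback.lift_fst_assoc]
    have h1 : act D (ι₂ (i y)) ∈ (W₃ : Set D.obj.left)ᶜ := by
      have : i y ∈ Set.range i := ⟨y, rfl⟩
      rw [hi] at this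
      exact this
    have h2 : act D (ι₂ z) ∈ K₀ :=
      subset_closure (act_mem_sat D _ (by rw [hz]; exact mem_sat D _ h1))
    have h3 : W'.ι (j z) = act D (ι₂ z) := by
      simp only [← Scheme.Hom.comp_apply, hj]
    exact (hfK hq (h3 ▸ h2)).elim
  -- coefficient
  obtain ⟨t, ht1, ht2⟩ := exists_diag D v
  have hvW : v ∈ W := hE₂W (hW₃E₂ (hE₁W₃ hvE₁))
  obtain ⟨q, hq⟩ := lift_pt t (ht1.symm ▸ hvW)
  have hqx : q ∈ (pullback k p).basicOpen (x ^ (m + 1)) := by
    rw [← Scheme.evaluation_ne_zero_iff_mem_basicOpen (pullback k p) q (U := ⊤) trivial, map_pow]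
    refine pow_ne_zero _ ?_
    rw [Scheme.evaluation_ne_zero_iff_mem_basicOpen]
    rw [← Scheme.preimage_basicOpen_top]
    show j q ∈ (W' : Scheme.{u}).basicOpen f
    have e : W'.ι (j q) = v := by
      rw [← Scheme.Hom.comp_apply, hj, Scheme.Hom.comp_apply, hq, ht2]
    rw [show j q = (⟨v, hE₂W' (hW₃E₂ (hE₁W₃ hvE₁))⟩ : (W' : Scheme.{u})) from W'.ι.isOpenEmbedding.injective e]
    exact hvf
  obtain ⟨g, hg, hgc, hgv⟩ := Coefficients.exists_coeff p k a b hab c (x ^ (m + 1))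
    (by rw [map_pow, map_pow, hx]) (by rw [map_pow, pow_succ, hm, zero_mul]) q hqx
  let O : D.obj.left.Opens := (W.ι ''ᵁ ((W : Scheme.{u}).basicOpen g)) ⊓ W₃
  have hfst : ∀ q', W.ι (pullback.fst k p q') = pr D (ι₂ q') := fun q' ↦ by
    rw [← Scheme.Hom.comp_apply, ← Scheme.Hom.comp_apply, hι₂]
  -- nonvanishing on the saturation lies in W₃
  have hsub : ∀ y : (W : Scheme.{u}), W.ι y ∈ E₂ → y ∈ (W : Scheme.{u}).basicOpen g →
      W.ι y ∈ W₃ := by
    intro y _ hy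
    by_contra hcon
    obtain ⟨t', ht'1, ht'2⟩ := exists_diag D (W.ι y)
    obtain ⟨q', hq'⟩ := lift_pt t' (ht'1.symm ▸ y.2)
    have : q' ∈ Set.range i := by
      rw [hi]
      show (ι₂ ≫ act D) q' ∈ (W₃ : Set D.obj.left)ᶜ
      rw [Scheme.Hom.comp_apply, hq', ht'2]
      exact hcon
    obtain ⟨w, rfl⟩ := this
    have hy' : pullback.fst k p (i w) = y := W.ι.isOpenEmbedding.injective (by rw [hfst, hq', ht'1])
    have : w ∈ (Scheme.IdealSheafData.vanishingIdeal C).subscheme.basicOpen (c.appTop g) := by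
      rw [← Scheme.preimage_basicOpen_top]
      show c w ∈ (W : Scheme.{u}).basicOpen g
      rw [Scheme.Hom.comp_apply, hy']
      exact hy
    rw [hgc, Scheme.basicOpen_zero] at this
    exact this
  refine ⟨O, ?_, ?_, ?_⟩
  · ext t'
    have hmemO : ∀ z, z ∈ O ↔ z ∈ W₃ ∧ ∃ hz : z ∈ W, (⟨z, hz⟩ : (W : Scheme.{u})) ∈
        (W : Scheme.{u}).basicOpen g := fun z ↦ by
      constructor
      · rintro ⟨⟨y, hy, rfl⟩, hz⟩; exact ⟨hz, y.2, hy⟩
      · rintro ⟨hz, hzW, hy⟩; exact ⟨⟨⟨z, hzW⟩, hy, rfl⟩, hz⟩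
    have hiff : ∀ h1 : pr D t' ∈ W, ∀ h2 : act D t' ∈ W,
        (⟨_, h1⟩ : (W : Scheme.{u})) ∈ (W : Scheme.{u}).basicOpen g ↔
        (⟨_, h2⟩ : (W : Scheme.{u})) ∈ (W : Scheme.{u}).basicOpen g := by
      intro h1 h2
      have ea : a ⟨t', h1, h2⟩ = ⟨_, h1⟩ := W.ι.isOpenEmbedding.injective
        (by rw [← Scheme.Hom.comp_apply, ha]; rfl)
      have eb : b ⟨t', h1, h2⟩ = ⟨_, h2⟩ := W.ι.isOpenEmbedding.injective
        (by rw [← Scheme.Hom.comp_apply, hb]; rfl)
      rw [← ea, ← eb]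
      show (⟨t', h1, h2⟩ : (Nset : Scheme.{u})) ∈ a ⁻¹ᵁ (W : Scheme.{u}).basicOpen g ↔ (⟨t', h1, h2⟩ : (Nset : Scheme.{u})) ∈ b ⁻¹ᵁ (W : Scheme.{u}).basicOpen g
      rw [Scheme.preimage_basicOpen_top, Scheme.preimage_basicOpen_top, hg]
    show pr D t' ∈ O ↔ act D t' ∈ O
    rw [hmemO, hmemO]
    constructor
    · rintro ⟨h3, h1, hy⟩
      have hE : act D t' ∈ E₂ := act_mem_sat D t' (hW₃E₂ h3)
      have h2 := hE₂W hE
      exact ⟨hsub ⟨_, h2⟩ hE ((hiff h1 h2).1 hy), h2, (hiff h1 h2).1 hy⟩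
    · rintro ⟨h3, h2, hy⟩
      have hE : pr D t' ∈ E₂ := pr_mem_sat D t' (hW₃E₂ h3)
      have h1 := hE₂W hE
      exact ⟨hsub ⟨_, h1⟩ hE ((hiff h1 h2).2 hy), h1, (hiff h1 h2).2 hy⟩
  · exact QuasiSeparatedSpace.inter_isCompact _ _ (W.ι ''ᵁ _).2
      ((isCompact_basicOpen _ isCompact_univ g).image W.ι.continuous) W₃.2 hW₃c
  · refine ⟨⟨_, hgv, ?_⟩, hE₁W₃ hvE₁⟩
    show W.ι (pullback.fst k p q) = v
    rw [hfst, hq, ht1]

end Groth.Agent.Lib.DescAlg.IndQA.Main
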